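import Groth.Agent.Lib.Kap.Basic
import Mathlib.LinearAlgebra.Projection
import Mathlib.Order.Zorn
import Mathlib.Data.Set.Finite.Lattice

/-!
# Kaplansky: summands of sums of countably generated modules
-/

open Submodule

namespace Groth.Agent.Kap

universe u

variable {R M : Type u} [CommRing R] [AddCommGroup M] [Module R M]

theorem exists_countable_invariant {ι : Type u} (N : ι → Submodule R M) (htop : ⨆ i, N i = ⊤)
    (hc : ∀ i, CAlg.IsCountablyGenerated R (N i)) (π : M →ₗ[R] M) (i₀ : ι) :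
    ∃ J : Set ι, J.Countable ∧ i₀ ∈ J ∧ (⨆ i ∈ J, N i).map π ≤ ⨆ i ∈ J, N i := by
  classical
  choose t ht hspan using fun i => (cg_iff_exists (N i)).1 (hc i)
  have hfin : ∀ x : M, ∃ s : Finset ι, x ∈ ⨆ i ∈ s, N i := fun x =>
    Submodule.mem_iSup_iff_exists_finset.1 (htop ▸ mem_top)
  choose F hF using hfin
  let next : Set ι → Set ι := fun J => J ∪ ⋃ i ∈ J, ⋃ x ∈ t i, (F (π x) : Set ι)
  let Jn : ℕ → Set ι := fun n => next^[n] {i₀}
  have hsucc : ∀ n, Jn (n + 1) = next (Jn n) := fun n => Function.iterate_succ_apply' _ _ _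
  have hJn : ∀ n, (Jn n).Countable := by
    intro n
    induction n with
    | zero => exact Set.countable_singleton i₀
    | succ n ih =>
      rw [hsucc]
      exact ih.union (ih.biUnion fun i _ => (ht i).biUnion fun x _ => (F (π x)).countable_toSet)
  refine ⟨⋃ n, Jn n, Set.countable_iUnion hJn, Set.mem_iUnion.2 ⟨0, rfl⟩, ?_⟩
  rw [Submodule.map_iSup]
  refine iSup_le fun i => ?_
  rw [Submodule.map_iSup]
  refine iSup_le fun hi => ?_
  obtain ⟨n, hn⟩ := Set.mem_iUnion.1 hi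
  rw [← hspan i, map_span, span_le]
  rintro _ ⟨x, hx, rfl⟩
  refine (iSup₂_le fun j hj => ?_ : ⨆ j ∈ F (π x), N j ≤ _) (hF (π x))
  refine le_biSup N (Set.mem_iUnion.2 ⟨n + 1, ?_⟩)
  rw [hsucc]
  exact Or.inr (Set.mem_biUnion hn (Set.mem_biUnion hx hj))

theorem exists_isInternal_of_isCompl {ι : Type u} (N : ι → Submodule R M) (hind : iSupIndep N)
    (htop : ⨆ i, N i = ⊤) (hc : ∀ i, CAlg.IsCountablyGenerated R (N i))
    (P Q : Submodule R M) (hPQ : IsCompl P Q) :
    ∃ 𝓛 : Set (Submodule R P), sSupIndep 𝓛 ∧ sSup 𝓛 = ⊤ ∧ ∀ L ∈ 𝓛, CAlg.IsCountablyGenerated R L := by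
  classical
  let p : M →ₗ[R] P := P.projectionOnto Q hPQ
  have hp : ∀ x : P, p x = x := fun x => Submodule.projectionOnto_apply_left hPQ x
  let π : M →ₗ[R] M := P.subtype ∘ₗ p
  let NJ : Set ι → Submodule R M := fun J => ⨆ i ∈ J, N i
  let good : Set ι × Set (Submodule R P) → Prop := fun a =>
    (NJ a.1).map π ≤ NJ a.1 ∧ sSupIndep a.2 ∧ sSup a.2 = (NJ a.1).map p ∧
      ∀ L ∈ a.2, CAlg.IsCountablyGenerated R L
  obtain ⟨⟨J, 𝓛⟩, hmax⟩ := zorn_le₀ {a | good a} fun c hc' hchain => by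
    refine ⟨(⋃ a ∈ c, a.1, ⋃₀ (Prod.snd '' c)), ⟨?_, ?_, ?_, ?_⟩, fun a ha =>
      ⟨Set.subset_biUnion_of_mem (u := Prod.fst) ha, Set.subset_sUnion_of_mem (Set.mem_image_of_mem _ ha)⟩⟩
    · rw [Submodule.map_iSup]
      refine iSup_le fun i => ?_
      rw [Submodule.map_iSup]
      refine iSup_le fun hi => ?_
      obtain ⟨a, ha, hia⟩ := Set.mem_iUnion₂.1 hi
      exact ((map_mono (le_biSup N hia)).trans (hc' ha).1).trans
        (biSup_mono fun j hj => Set.mem_biUnion ha hj)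
    · refine iSupIndep_sUnion_of_directed ?_ ?_
      · rintro _ ⟨a, ha, rfl⟩ _ ⟨b, hb, rfl⟩
        rcases hchain.total ha hb with h | h
        · exact ⟨b.2, ⟨b, hb, rfl⟩, h.2, subset_rfl⟩
        · exact ⟨a.2, ⟨a, ha, rfl⟩, subset_rfl, h.2⟩
      · rintro _ ⟨a, ha, rfl⟩
        exact (hc' ha).2.1
    · refine le_antisymm (sSup_le fun L hL => ?_) ?_
      · obtain ⟨_, ⟨a, ha, rfl⟩, hLa⟩ := hL
        exact ((le_sSup hLa).trans (hc' ha).2.2.1.le).trans
          (map_mono (biSup_mono fun j hj => Set.mem_biUnion ha hj))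
      · rw [Submodule.map_iSup]
        refine iSup_le fun i => ?_
        rw [Submodule.map_iSup]
        refine iSup_le fun hi => ?_
        obtain ⟨a, ha, hia⟩ := Set.mem_iUnion₂.1 hi
        exact ((map_mono (le_biSup N hia)).trans (hc' ha).2.2.1.ge).trans
          (sSup_le_sSup (Set.subset_sUnion_of_mem (Set.mem_image_of_mem _ ha)))
    · rintro L ⟨_, ⟨a, ha, rfl⟩, hLa⟩
      exact (hc' ha).2.2.2 L hLa
  obtain ⟨h1, h2, h3, h4⟩ := hmax.prop
  have hJ : J = Set.univ := by
    by_contra hne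
    obtain ⟨i₀, hi₀⟩ := (Set.ne_univ_iff_exists_notMem J).1 hne
    obtain ⟨J₁, hJ₁, hi₁, hinv⟩ := exists_countable_invariant N htop hc π i₀
    have hcompl : IsCompl (NJ J) (NJ Jᶜ) := by
      refine ⟨hind.disjoint_biSup_biSup disjoint_compl_right, codisjoint_iff.2 ?_⟩
      rw [← iSup_union, Set.union_compl_self, iSup_univ, htop]
    let ρ : M →ₗ[R] M := (NJ J).projection (NJ Jᶜ) hcompl
    let r : P →ₗ[R] P := p ∘ₗ ρ ∘ₗ P.subtype
    let q : P →ₗ[R] P := LinearMap.id - r
    let L' : Submodule R P := ((NJ J₁).map p).map q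
    have hrmem : ∀ x : P, r x ∈ (NJ J).map p := fun x =>
      mem_map_of_mem (projection_apply_mem hcompl _)
    have hrfix : ∀ x ∈ (NJ J).map p, r x = x := by
      rintro _ ⟨y, hy, rfl⟩
      show p (ρ (π y)) = p y
      rw [show ρ (π y) = π y from projection_apply_of_mem_left hcompl (h1 (mem_map_of_mem hy))]
      exact hp _
    have hq : ∀ x ∈ L', r x = 0 := by
      rintro _ ⟨y, -, rfl⟩
      show r (y - r y) = 0
      rw [map_sub, hrfix _ (hrmem y), sub_self]
    have hdisj : Disjoint L' (sSup 𝓛) := by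
      rw [h3, Submodule.disjoint_def]
      intro x hx hx'
      rw [← hrfix x hx', hq x hx]
    have hsup : (NJ (J ∪ J₁)).map p = (NJ J).map p ⊔ (NJ J₁).map p := by
      rw [← Submodule.map_sup, ← iSup_union]
    have hgood : good (J ∪ J₁, insert L' 𝓛) := by
      refine ⟨?_, ?_, ?_, ?_⟩
      · show (NJ (J ∪ J₁)).map π ≤ NJ (J ∪ J₁)
        simp only [NJ, iSup_union, Submodule.map_sup]
        exact sup_le_sup h1 hinv
      · intro a ha
        rw [Submodule.disjoint_def]
        intro x hxa hx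
        rcases ha with rfl | ha
        · have hle : sSup (insert L' 𝓛 \ {L'}) ≤ sSup 𝓛 := by
            refine sSup_le_sSup ?_
            rintro b ⟨hb | hb, hb'⟩
            · exact absurd hb hb'
            · exact hb
          exact Submodule.disjoint_def.1 hdisj x hxa (hle hx)
        · have hle : sSup (insert L' 𝓛 \ {a}) ≤ L' ⊔ sSup (𝓛 \ {a}) := by
            refine sSup_le ?_
            rintro b ⟨rfl | hb, hb'⟩
            · exact le_sup_left
            · exact le_sup_of_le_right (le_sSup ⟨hb, hb'⟩)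
          obtain ⟨l, hl, y, hy, rfl⟩ := Submodule.mem_sup.1 (hle hx)
          have hl0 : l = 0 := Submodule.disjoint_def.1 hdisj l hl (by
            have hle' : sSup (𝓛 \ {a}) ≤ sSup 𝓛 := sSup_le_sSup Set.sdiff_subset
            simpa using sub_mem (le_sSup ha hxa : l + y ∈ sSup 𝓛) (hle' hy))
          subst hl0
          rw [zero_add] at hxa ⊢
          exact Submodule.disjoint_def.1 (h2 ha) y hxa hy
      · show sSup (insert L' 𝓛) = (NJ (J ∪ J₁)).map p
        rw [sSup_insert, h3, hsup]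
        refine le_antisymm (sup_le ?_ le_sup_left) (sup_le le_sup_right ?_)
        · rintro _ ⟨y, hy, rfl⟩
          exact sub_mem (mem_sup_right hy) (mem_sup_left (hrmem y))
        · intro x hx
          rw [show x = q x + r x from (sub_add_cancel x (r x)).symm]
          exact add_mem (mem_sup_left (mem_map_of_mem hx)) (mem_sup_right (hrmem x))
      · rintro L (rfl | hL)
        · exact cg_map (cg_map (cg_biSup hJ₁ fun i _ => hc i) p) q
        · exact h4 L hL
    have hle := hmax.le_of_ge hgood ⟨Set.subset_union_left, Set.subset_insert _ _⟩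
    exact hi₀ (hle.1 (Or.inr hi₁))
  refine ⟨𝓛, h2, ?_, h4⟩
  show sSup 𝓛 = ⊤
  rw [h3]
  show (NJ J).map p = ⊤
  rw [hJ, show NJ Set.univ = ⊤ by simp only [NJ, iSup_univ, htop], Submodule.map_top,
    LinearMap.range_eq_top]
  exact fun x => ⟨x, hp x⟩

theorem exists_isInternal_summand {ι : Type u} (N : ι → Submodule R M) (hind : iSupIndep N)
    (htop : ⨆ i, N i = ⊤) (hc : ∀ i, CAlg.IsCountablyGenerated R (N i))
    (P Q : Submodule R M) (hPQ : IsCompl P Q) :
    ∃ (κ : Type u) (L : κ → Submodule R P), iSupIndep L ∧ ⨆ k, L k = ⊤ ∧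
      ∀ k, CAlg.IsCountablyGenerated R (L k) := by
  obtain ⟨𝓛, h1, h2, h3⟩ := exists_isInternal_of_isCompl N hind htop hc P Q hPQ
  exact ⟨𝓛, fun L => L.1, (sSupIndep_iff 𝓛).1 h1, by rw [← sSup_eq_iSup']; exact h2, fun k => h3 k.1 k.2⟩

end Groth.Agent.Kap
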