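import Groth.Agent.Lib.Kap.Summand
import Mathlib.LinearAlgebra.DirectSum.Basis
import Mathlib.Algebra.Module.Projective
import Mathlib.LinearAlgebra.Matrix.NonsingularInverse
import Mathlib.LinearAlgebra.Matrix.ToLin
import Mathlib.LinearAlgebra.Basis.Basic
import Mathlib.RingTheory.LocalRing.ResidueField.Basic
import Mathlib.LinearAlgebra.FreeModule.Basic

/-!
# Projective modules over local rings are free
-/

open Submodule

namespace Groth.Agent.Kap

universe u

variable {R P : Type u} [CommRing R] [IsLocalRing R] [AddCommGroup P] [Module R P] [Module.Projective R P]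

open IsLocalRing Matrix in
theorem exists_free_piece (x : P) :
    ∃ (n : ℕ) (y : Fin n → P) (g : P →ₗ[R] Fin n → R),
      (∀ i, g (y i) = Pi.single i 1) ∧ x ∈ span R (Set.range y) := by
  classical
  obtain ⟨s, hs⟩ := Module.projective_def'.1 ‹Module.Projective R P›
  let π : (P →₀ R) →ₗ[R] P := Finsupp.linearCombination R id
  have hπs : ∀ p, π (s p) = p := fun p => LinearMap.congr_fun hs p
  let S : ℕ → Prop := fun n => ∃ (z : Fin n → (P →₀ R)) (ψ : (P →₀ R) →ₗ[R] Fin n → R) (a : Fin n → R),
    (∀ i, ψ (z i) = Pi.single i 1) ∧ s x = ∑ i, a i • z i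
  have hex : ∃ n, S n := by
    let e := (s x).support.equivFin.symm
    refine ⟨_, fun i => Finsupp.single (e i : P) 1, LinearMap.pi fun i => Finsupp.lapply (e i : P),
      fun i => s x (e i), fun i => ?_, ?_⟩
    · ext j
      simp [Finsupp.single_apply, Pi.single_apply, Subtype.coe_inj, e.injective.eq_iff, eq_comm]
    · rw [e.sum_comp (fun p : (s x).support => s x (p : P) • Finsupp.single (p : P) (1 : R)), Finset.sum_coe_sort (s x).support (fun p : P => s x p • Finsupp.single p (1 : R))]
      simp only [Finsupp.smul_single, smul_eq_mul, mul_one]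
      exact (Finsupp.sum_single (s x)).symm
  obtain ⟨n, ⟨z, ψ, a, hz, hsx⟩, hmin⟩ : ∃ n, S n ∧ ∀ m < n, ¬ S m :=
    ⟨Nat.find hex, Nat.find_spec hex, fun m hm => Nat.find_min hex hm⟩
  have hirr : ∀ (j : Fin n) (c : Fin n → R), a j ≠ ∑ i ∈ Finset.univ.erase j, c i * a i := by
    intro j c hj
    obtain ⟨k, rfl⟩ : ∃ k, n = k + 1 := ⟨n - 1, (Nat.sub_add_cancel (Fin.pos j)).symm⟩
    refine hmin k k.lt_succ_self ⟨fun i => z (j.succAbove i) + c (j.succAbove i) • z j,
      LinearMap.funLeft R R j.succAbove ∘ₗ ψ, fun i => a (j.succAbove i), fun i => ?_, ?_⟩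
    · ext l
      simp only [LinearMap.comp_apply, LinearMap.funLeft_apply, map_add, map_smul, Pi.add_apply,
        Pi.smul_apply, hz, smul_eq_mul]
      rw [Pi.single_eq_of_ne (Fin.succAbove_ne j l), mul_zero, add_zero]
      simp [Pi.single_apply, Fin.succAbove_right_injective.eq_iff]
    · have hj' : a j = ∑ i, c (j.succAbove i) * a (j.succAbove i) := by
        rw [hj, ← Finset.sum_erase_add _ _ (Finset.mem_univ j)] at *
        have h : ∑ i ∈ Finset.univ.erase j, c i * a i = ∑ i, c (j.succAbove i) * a (j.succAbove i) := by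
          have := Fin.sum_univ_succAbove (fun i => c i * a i) j
          rw [← Finset.add_sum_erase _ _ (Finset.mem_univ j)] at this
          exact add_left_cancel this
        exact h
      rw [hsx, Fin.sum_univ_succAbove _ j, hj', Finset.sum_smul, ← Finset.sum_add_distrib]
      refine Finset.sum_congr rfl fun i _ => ?_
      rw [smul_add, ← mul_smul, mul_comm, add_comm]
  let y : Fin n → P := fun i => π (z i)
  let B : Matrix (Fin n) (Fin n) R := Matrix.of fun i j => ψ (s (y i)) j
  have hx : x = ∑ i, a i • y i := by
    conv_lhs => rw [← hπs x, hsx]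
    simp [map_sum, y]
  have hrel : ∀ j, a j = ∑ i, a i * B i j := by
    intro j
    have h1 : ψ (s x) j = a j := by
      rw [hsx]; simp [map_sum, hz, Pi.single_apply]
    rw [← h1]
    conv_lhs => rw [hx]
    simp [map_sum, B]
  have hB : ∀ i j, residue R (B i j) = (1 : Matrix (Fin n) (Fin n) (ResidueField R)) i j := by
    intro i j
    by_cases hij : i = j
    · subst hij
      rw [Matrix.one_apply_eq, ← map_one (residue R), ← sub_eq_zero, ← map_sub, residue_eq_zero_iff]
      intro hu
      obtain ⟨v, hv⟩ := hu
      refine hirr i (fun l => -(↑v⁻¹ : R) * B l i) ?_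
      have h := hrel i
      rw [← Finset.add_sum_erase _ _ (Finset.mem_univ i)] at h
      have h' : (v : R) * a i = -∑ l ∈ Finset.univ.erase i, a l * B l i := by rw [hv]; linear_combination -h
      rw [← v.inv_mul_cancel_left (a i), h', mul_neg, Finset.mul_sum, ← Finset.sum_neg_distrib]
      exact Finset.sum_congr rfl fun l _ => by ring
    · rw [Matrix.one_apply_ne hij, residue_eq_zero_iff]
      intro hu
      obtain ⟨v, hv⟩ := hu
      refine hirr i (fun l => (↑v⁻¹ : R) * (if l = j then 1 - B j j else -B l j)) ?_
      have h := hrel j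
      rw [← Finset.add_sum_erase _ _ (Finset.mem_univ i)] at h
      have h' : (v : R) * a i = a j - ∑ l ∈ Finset.univ.erase i, a l * B l j := by rw [hv]; linear_combination -h
      rw [← v.inv_mul_cancel_left (a i), h']
      have hj : j ∈ Finset.univ.erase i := Finset.mem_erase.2 ⟨Ne.symm hij, Finset.mem_univ j⟩
      rw [← Finset.add_sum_erase _ _ hj, ← Finset.add_sum_erase _ _ hj, if_pos rfl]
      rw [mul_sub, mul_add, Finset.mul_sum, Finset.sum_congr rfl
        (fun l hl => by rw [if_neg (Finset.mem_erase.1 hl).1] : ∀ l ∈ (Finset.univ.erase i).erase j,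
          (↑v⁻¹ : R) * (if l = j then 1 - B j j else -B l j) * a l = (↑v⁻¹ : R) * -B l j * a l)]
      rw [← sub_sub, sub_eq_add_neg _ (∑ l ∈ _, _), ← Finset.sum_neg_distrib]
      congr 1
      · ring
      · exact Finset.sum_congr rfl fun l _ => by ring
  have hdet : IsUnit B.det := by
    by_contra hd
    have h1 : residue R B.det = 0 := (residue_eq_zero_iff _).2 hd
    rw [RingHom.map_det, show (residue R).mapMatrix B = 1 from Matrix.ext hB, Matrix.det_one] at h1
    exact one_ne_zero h1
  refine ⟨n, y, (Matrix.vecMulLinear B⁻¹) ∘ₗ ψ ∘ₗ s, fun i => ?_,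
    by rw [hx]; exact sum_mem fun i _ => smul_mem _ _ (subset_span ⟨i, rfl⟩)⟩
  show Matrix.vecMul (ψ (s (y i))) B⁻¹ = _
  rw [show ψ (s (y i)) = Matrix.vecMul (Pi.single i 1) B by rw [Matrix.single_one_vecMul]; rfl,
    Matrix.vecMul_vecMul, Matrix.mul_nonsing_inv B hdet, Matrix.vecMul_one]

theorem free_of_countablyGenerated (hc : CAlg.IsCountablyGenerated R P) : Module.Free R P := by
  classical
  obtain ⟨t, ht, htop⟩ := hc
  let Good : Set P → Prop := fun u => LinearIndepOn R id u ∧ ∃ C : Submodule R P, IsCompl (span R u) C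
  have hstep : ∀ (u : {u : Set P // Good u}) (x : P), ∃ u' : {u : Set P // Good u}, u.1 ⊆ u'.1 ∧ x ∈ span R u'.1 := by
    rintro ⟨u, hu, C, hC⟩ x
    haveI : Module.Projective R C := Module.Projective.of_split C.subtype (C.projectionOnto _ hC.symm)
      (LinearMap.ext fun c => projectionOnto_apply_left hC.symm c)
    obtain ⟨n, y, g, hg, hxy⟩ := exists_free_piece (R := R) (P := C) (C.projectionOnto _ hC.symm x)
    have hy : LinearIndependent R y := by
      refine LinearIndependent.of_comp g ?_
      rw [show (g : C → Fin n → R) ∘ y = fun i => Pi.single i 1 from funext hg]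
      have h := (Pi.basisFun R (Fin n)).linearIndependent
      rwa [show ⇑(Pi.basisFun R (Fin n)) = fun i => Pi.single i 1 from funext (Pi.basisFun_apply R _)] at h
    let v : Fin n → P := fun i => (y i : P)
    have hv : LinearIndependent R v := hy.map' C.subtype C.ker_subtype
    have hspanv : span R (Set.range v) = (span R (Set.range y)).map C.subtype := by
      rw [map_span, ← Set.range_comp]; rfl
    let G : P →ₗ[R] Fin n → R := g ∘ₗ C.projectionOnto _ hC.symm
    let back : (Fin n → R) →ₗ[R] P := Fintype.linearCombination R v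
    have hvC : span R (Set.range v) ≤ C := span_le.2 (by rintro _ ⟨i, rfl⟩; exact (y i).2)
    have hGv : ∀ i, G (v i) = Pi.single i 1 := fun i => by
      show g (C.projectionOnto _ hC.symm (y i : P)) = _
      rw [projectionOnto_apply_left]; exact hg i
    have hbackG : ∀ p ∈ span R (Set.range v), back (G p) = p := fun p hp => by
      refine LinearMap.eqOn_span (f := back ∘ₗ G) (g := LinearMap.id) ?_ hp
      rintro _ ⟨i, rfl⟩
      show back (G (v i)) = v i
      rw [hGv]; simp [back, Fintype.linearCombination_apply, Pi.single_apply]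
    have hGu : ∀ p ∈ span R u, G p = 0 := fun p hp => by
      show g (C.projectionOnto _ hC.symm p) = 0
      rw [(projectionOnto_apply_eq_zero_iff hC.symm).2 hp, map_zero]
    refine ⟨⟨u ∪ Set.range v, hu.id_union hv.linearIndepOn_id (hC.disjoint.mono_right hvC),
      C ⊓ LinearMap.ker G, ?_⟩, Set.subset_union_left, ?_⟩
    · refine ⟨Submodule.disjoint_def.2 fun p hp hp' => ?_, codisjoint_iff.2 (eq_top_iff.2 fun p _ => ?_)⟩
      · rw [span_union, mem_sup] at hp
        obtain ⟨a, ha, b, hb, rfl⟩ := hp
        have hb0 : b = 0 := by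
          have h2 : G (a + b) = 0 := hp'.2
          rw [map_add, hGu a ha, zero_add] at h2
          rw [← hbackG b hb, h2, map_zero]
        rw [hb0, add_zero] at hp'
        rw [hb0, add_zero]
        exact Submodule.disjoint_def.1 hC.disjoint a ha hp'.1
      · obtain ⟨a, ha, c, hc, rfl⟩ := mem_sup.1 (hC.sup_eq_top.ge (mem_top : p ∈ ⊤))
        rw [show a + c = (a + back (G c)) + (c - back (G c)) by abel, span_union]
        have hmem : back (G c) ∈ span R (Set.range v) := by
          simp only [back, Fintype.linearCombination_apply]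
          exact sum_mem fun i _ => smul_mem _ _ (subset_span ⟨i, rfl⟩)
        refine add_mem (mem_sup_left (add_mem (mem_sup_left ha) (mem_sup_right hmem)))
          (mem_sup_right ⟨sub_mem hc (hvC hmem), ?_⟩)
        show G (c - back (G c)) = 0
        rw [map_sub, sub_eq_zero]
        simp only [back, Fintype.linearCombination_apply, map_sum, map_smul, hGv]
        ext j
        simp [Pi.single_apply]
    · rw [← projection_add_projection_eq_self hC x, span_union]
      refine add_mem (mem_sup_left (projection_apply_mem hC x)) (mem_sup_right ?_)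
      rw [hspanv]
      exact ⟨_, hxy, rfl⟩
  rcases t.eq_empty_or_nonempty with rfl | hne
  · rw [span_empty] at htop
    haveI : Subsingleton P := (Submodule.subsingleton_iff R).1 (subsingleton_of_bot_eq_top htop)
    exact Module.Free.of_subsingleton R P
  · obtain ⟨x, rfl⟩ := ht.exists_eq_range hne
    choose next hnext hmem using hstep
    have h0 : Good ∅ := ⟨linearIndepOn_empty R id, ⊤, by rw [span_empty]; exact isCompl_bot_top⟩
    let u : ℕ → {u : Set P // Good u} := fun k => k.rec ⟨∅, h0⟩ fun k v => next v (x k)
    have hmono : Monotone fun k => (u k).1 := monotone_nat_of_le_succ fun k => hnext (u k) (x k)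
    have hli : LinearIndepOn R id (⋃ k, (u k).1) :=
      linearIndepOn_iUnion_of_directed hmono.directed_le fun k => (u k).2.1
    refine Module.Free.of_basis (Module.Basis.mk (v := fun p : (⋃ k, (u k).1 : Set P) => (p : P)) hli ?_)
    rw [Subtype.range_coe, ← htop, span_le]
    rintro _ ⟨k, rfl⟩
    exact span_mono (Set.subset_iUnion (fun k => (u k).1) (k + 1)) (hmem (u k) (x k))

theorem free_of_isInternal {κ : Type u} (L : κ → Submodule R P) (hind : iSupIndep L) (htop : ⨆ k, L k = ⊤)
    (hcL : ∀ k, CAlg.IsCountablyGenerated R (L k)) : Module.Free R P := by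
  classical
  have hI : DirectSum.IsInternal L := DirectSum.isInternal_submodule_of_iSupIndep_of_iSup_eq_top hind htop
  haveI : ∀ k, Module.Free R (L k) := fun k => by
    let q : P →ₗ[R] L k := DirectSum.component R κ (fun k => ↥(L k)) k ∘ₗ
      (LinearEquiv.ofBijective (DirectSum.coeLinearMap L) hI).symm.toLinearMap
    haveI : Module.Projective R (L k) := Module.Projective.of_split (L k).subtype q <| LinearMap.ext fun c => by
      have : (LinearEquiv.ofBijective (DirectSum.coeLinearMap L) hI).symm (c : P) =
          DirectSum.lof R κ (fun k => ↥(L k)) k c :=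
        (LinearEquiv.symm_apply_eq _).2 (DirectSum.coeLinearMap_of L k c).symm
      simp [q, this]
    exact free_of_countablyGenerated (hcL k)
  exact Module.Free.of_equiv (LinearEquiv.ofBijective (DirectSum.coeLinearMap L) hI)

theorem free_of_retract {F : Type u} [AddCommGroup F] [Module R F] {ι : Type u} (b : Module.Basis ι R F)
    (s : P →ₗ[R] F) (π : F →ₗ[R] P) (hπs : ∀ p, π (s p) = p) : Module.Free R P := by
  classical
  have hsinj : Function.Injective s := fun x y h => by rw [← hπs x, h, hπs]
  have hcompl : IsCompl (LinearMap.range s) (LinearMap.ker π) := by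
    refine ⟨Submodule.disjoint_def.2 ?_, codisjoint_iff.2 (eq_top_iff.2 fun p _ => ?_)⟩
    · rintro _ ⟨p, rfl⟩ hp
      have h1 : π (s p) = 0 := hp
      rw [hπs] at h1
      rw [h1, map_zero]
    · rw [show p = s (π p) + (p - s (π p)) by abel]
      exact add_mem (mem_sup_left ⟨_, rfl⟩) (mem_sup_right (by simp [LinearMap.mem_ker, hπs]))
  obtain ⟨κ, L, hind, htop, hcL⟩ := exists_isInternal_summand (fun p : ι => span R {b p})
    b.linearIndependent.iSupIndep_span_singleton
    (by rw [← span_range_eq_iSup]; exact b.span_eq)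
    (fun p => (cg_iff_exists _).2 ⟨{b p}, Set.countable_singleton _, rfl⟩) _ _ hcompl
  let e := (LinearEquiv.ofInjective s hsinj).symm
  refine free_of_isInternal (fun k => (L k).map e.toLinearMap) ?_ ?_ fun k => cg_map (hcL k) _
  · exact (iSupIndep_map_orderIso_iff (Submodule.orderIsoMapComap e)).2 hind
  · rw [← Submodule.map_iSup, htop, Submodule.map_top, LinearEquiv.range]

theorem free_of_projective : Module.Free R P := by
  obtain ⟨s, hs⟩ := Module.projective_def'.1 ‹Module.Projective R P›
  exact free_of_retract Finsupp.basisSingleOne s (Finsupp.linearCombination R id) fun p => LinearMap.congr_fun hs p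

end Groth.Agent.Kap
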