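import Mathlib.Algebra.DirectSum.Module
import Mathlib.LinearAlgebra.DFinsupp
import Mathlib.Order.SuccPred.Limit
import Mathlib.Order.SuccPred.Basic
import Groth.Prelude.Def_Found

/-!
# Countably generated modules and dévissage
-/

open Submodule

namespace Groth.Agent.Kap

universe u

variable {R M M' : Type u} [CommRing R] [AddCommGroup M] [Module R M] [AddCommGroup M'] [Module R M']

theorem cg_iff_exists (N : Submodule R M) :
    CAlg.IsCountablyGenerated R N ↔ ∃ t : Set M, t.Countable ∧ span R t = N := by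
  constructor
  · rintro ⟨s, hs, h⟩
    exact ⟨N.subtype '' s, hs.image _, by rw [← map_span, h, Submodule.map_top, range_subtype]⟩
  · rintro ⟨t, ht, h⟩
    refine ⟨N.subtype ⁻¹' t, ht.preimage N.injective_subtype, ?_⟩
    refine map_injective_of_injective N.injective_subtype ?_
    rw [map_span, Submodule.map_top, range_subtype, Set.image_preimage_eq_of_subset, h]
    intro x hx
    have hxN : x ∈ N := h ▸ subset_span hx
    exact ⟨⟨x, hxN⟩, rfl⟩

theorem cg_map {N : Submodule R M} (h : CAlg.IsCountablyGenerated R N) (f : M →ₗ[R] M') :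
    CAlg.IsCountablyGenerated R (N.map f) := by
  obtain ⟨t, ht, rfl⟩ := (cg_iff_exists N).1 h
  exact (cg_iff_exists _).2 ⟨f '' t, ht.image _, (map_span f t).symm⟩

theorem cg_of_surjective (h : CAlg.IsCountablyGenerated R M) (f : M →ₗ[R] M') (hf : Function.Surjective f) :
    CAlg.IsCountablyGenerated R M' := by
  obtain ⟨s, hs, h⟩ := h
  exact ⟨f '' s, hs.image _, by rw [← map_span, h, Submodule.map_top, LinearMap.range_eq_top.2 hf]⟩

theorem cg_iSup {κ : Type*} [Countable κ] {N : κ → Submodule R M}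
    (h : ∀ k, CAlg.IsCountablyGenerated R (N k)) : CAlg.IsCountablyGenerated R ↥(⨆ k, N k) := by
  choose t ht hspan using fun k => (cg_iff_exists (N k)).1 (h k)
  exact (cg_iff_exists _).2 ⟨⋃ k, t k, Set.countable_iUnion ht, by rw [span_iUnion]; simp only [hspan]⟩

theorem cg_biSup {κ : Type*} {s : Set κ} (hs : s.Countable) {N : κ → Submodule R M}
    (h : ∀ k ∈ s, CAlg.IsCountablyGenerated R (N k)) : CAlg.IsCountablyGenerated R ↥(⨆ k ∈ s, N k) := by
  haveI := hs.to_subtype
  rw [iSup_subtype']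
  exact cg_iSup fun k : s => h k k.2

section devissage

variable {S : Type u} [LinearOrder S] [WellFoundedLT S] (Mf : S → Submodule R M)

theorem isInternal_of_devissage (hmono : Monotone Mf)
    (hlim : ∀ s : S, Order.IsSuccPrelimit s → Mf s = ⨆ t : {t : S // t < s}, Mf t.1)
    (htop : (⨆ s, Mf s) = ⊤) (C : {p : S × S // p.1 ⋖ p.2} → Submodule R M)
    (hC : ∀ p, Mf p.1.1 ⊓ C p = ⊥ ∧ Mf p.1.1 ⊔ C p = Mf p.1.2) [DecidableEq {p : S × S // p.1 ⋖ p.2}] :
    DirectSum.IsInternal C := by
  refine DirectSum.isInternal_submodule_of_iSupIndep_of_iSup_eq_top ?_ ?_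
  · rw [iSupIndep_iff_finsetSum_eq_zero_imp_eq_zero]
    intro s v hv h0
    by_contra hne
    simp only [not_forall] at hne
    obtain ⟨i, hi, hvi⟩ := hne
    classical
    let s' := s.filter fun i => v i ≠ 0
    have hs' : s'.Nonempty := ⟨i, Finset.mem_filter.2 ⟨hi, hvi⟩⟩
    obtain ⟨p, hp, hmax⟩ := s'.exists_max_image (fun p => p.1.2) hs'
    obtain ⟨hps, hp0⟩ := Finset.mem_filter.1 hp
    have hrest : ∑ q ∈ s'.erase p, v q ∈ Mf p.1.1 := by
      refine sum_mem fun q hq => ?_
      obtain ⟨hne, hq'⟩ := Finset.mem_erase.1 hq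
      have hle : q.1.2 ≤ p.1.1 := by
        have h1 : q.1.2 < p.1.2 := lt_of_le_of_ne (hmax q hq') fun e => hne <| Subtype.ext <|
          Prod.ext ((q.2.unique_left (e ▸ p.2))) e
        by_contra hlt
        exact p.2.2 (not_le.1 hlt) h1
      exact hmono hle ((hC q).2.le (mem_sup_right (hv q (Finset.mem_filter.1 hq').1)))
    have hsum : v p + ∑ q ∈ s'.erase p, v q = 0 := by
      rw [Finset.add_sum_erase _ _ hp, ← h0]
      exact Finset.sum_filter_ne_zero s
    have hvp : v p ∈ Mf p.1.1 := by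
      rw [eq_neg_of_add_eq_zero_left hsum]
      exact neg_mem hrest
    exact hp0 ((Submodule.mem_bot R).1 ((hC p).1 ▸ ⟨hvp, hv p hps⟩))
  · refine top_le_iff.1 (htop.ge.trans (iSup_le fun s => ?_))
    induction s using WellFoundedLT.induction with
    | _ s ih =>
      by_cases h : Order.IsSuccPrelimit s
      · rw [hlim s h]
        exact iSup_le fun t => ih t.1 t.2
      · obtain ⟨r, hr⟩ := Order.not_isSuccPrelimit_iff_exists_covBy.1 h
        rw [← (hC ⟨(r, s), hr⟩).2]
        exact sup_le (ih r hr.lt) (le_iSup C ⟨(r, s), hr⟩)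

/-- the complement is the quotient -/
noncomputable def equivQuotOfCompl {A B D : Submodule R M} (h0 : A ⊓ D = ⊥) (h1 : A ⊔ D = B) :
    D ≃ₗ[R] (↥B ⧸ A.comap B.subtype) :=
  LinearEquiv.ofBijective ((A.comap B.subtype).mkQ ∘ₗ Submodule.inclusion (h1 ▸ le_sup_right)) <| by
    constructor
    · rw [injective_iff_map_eq_zero]
      intro x hx
      have hx' : (x : M) ∈ A := Submodule.mem_comap.1 ((Submodule.Quotient.mk_eq_zero (A.comap B.subtype)).1 hx)
      exact Subtype.ext ((Submodule.mem_bot R).1 (h0 ▸ ⟨hx', x.2⟩))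
    · intro y
      obtain ⟨y, rfl⟩ := Submodule.mkQ_surjective _ y
      obtain ⟨a, ha, d, hd, he⟩ := Submodule.mem_sup.1 (show (y : M) ∈ A ⊔ D from h1 ▸ y.2)
      refine ⟨⟨d, hd⟩, (Submodule.Quotient.eq _).2 ?_⟩
      show d - (y : M) ∈ A
      rw [← he, sub_add_cancel_right]
      exact neg_mem ha

end devissage

end Groth.Agent.Kap
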