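import Groth.Agent.Lib.Kap.Local
import Mathlib.RingTheory.LocalProperties.Projective
import Mathlib.RingTheory.Jacobson.Ideal
import Mathlib.RingTheory.Ideal.Quotient.Noetherian
import Mathlib.LinearAlgebra.Matrix.Nondegenerate
import Mathlib.Algebra.Module.LocalizedModule.Basic
import Mathlib.RingTheory.Noetherian.Basic

/-!
# Projective modules of infinite rank (Bass)
-/

open Submodule

namespace Groth.Agent.Kap

universe u

variable {R P : Type u} [CommRing R] [AddCommGroup P] [Module R P]

variable (R P) in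
/-- `P/mP` is not finitely generated for any maximal ideal `m`. -/
def InfRank : Prop :=
  ∀ m : Ideal R, m.IsMaximal → ∀ T : Finset P, span R (T : Set P) ⊔ m • ⊤ ≠ ⊤

theorem infRank_of_localization [Module.Projective R P]
    (hP : ∀ (m : Ideal R) [m.IsMaximal],
      ¬ Module.Finite (Localization.AtPrime m) (LocalizedModule m.primeCompl P)) : InfRank R P := by
  classical
  intro m hm T hT
  haveI := hm
  let A := Localization.AtPrime m
  let Q := LocalizedModule m.primeCompl P
  let f := LocalizedModule.mkLinearMap m.primeCompl P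
  haveI : Module.Free A Q := free_of_projective
  let b := Module.Free.chooseBasis A Q
  refine hP m ?_
  let F := T.biUnion fun t => (b.repr (f t)).support
  have hfin : ∀ i, i ∈ F := by
    intro i
    by_contra hi
    let L : P →ₗ[R] A :=
      { toFun := fun p => b.repr (f p) i
        map_add' := fun p q => by simp
        map_smul' := fun r p => by
          rw [RingHom.id_apply, map_smul, ← algebraMap_smul A r (f p), map_smul, Finsupp.smul_apply,
            smul_eq_mul, Algebra.smul_def] }
    have hL : ∀ p, L p ∈ IsLocalRing.maximalIdeal A := by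
      intro p
      have hp : p ∈ span R (T : Set P) ⊔ m • ⊤ := (eq_top_iff.1 hT) mem_top
      have hle : span R (T : Set P) ⊔ m • ⊤ ≤ ((IsLocalRing.maximalIdeal A).restrictScalars R).comap L := by
        refine sup_le (span_le.2 fun t ht => ?_) (smul_le.2 fun r hr q _ => ?_)
        · show b.repr (f t) i ∈ IsLocalRing.maximalIdeal A
          rw [Finsupp.notMem_support_iff.1 fun h => hi (Finset.mem_biUnion.2 ⟨t, ht, h⟩)]
          exact zero_mem _
        · show L (r • q) ∈ IsLocalRing.maximalIdeal A
          rw [map_smul, Algebra.smul_def]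
          exact Ideal.mul_mem_right _ _ ((IsLocalization.AtPrime.to_map_mem_maximal_iff A m r).2 hr)
      exact hle hp
    obtain ⟨⟨p, s⟩, hps⟩ := IsLocalizedModule.surj m.primeCompl f (b i)
    have h1 : L p = algebraMap R A s := by
      show b.repr (f p) i = _
      rw [← hps, Submonoid.smul_def, ← algebraMap_smul A (s : R) (b i), map_smul, b.repr_self, Finsupp.smul_single,
        smul_eq_mul, mul_one, Finsupp.single_eq_same]
    exact s.2 ((IsLocalization.AtPrime.to_map_mem_maximal_iff A m s).1 (h1 ▸ hL p))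
  haveI : Fintype (Module.Free.ChooseBasisIndex A Q) := ⟨F, hfin⟩
  exact Module.Finite.of_basis b

theorem InfRank.of_compl (h : InfRank R P) {A C : Submodule R P} (hAC : A ⊔ C = ⊤) (hA : A.FG) :
    InfRank R C := by
  classical
  intro m hm T hT
  obtain ⟨S, hS⟩ := hA
  refine h m hm (S ∪ T.image C.subtype) (eq_top_iff.2 ?_)
  rw [← hAC, Finset.coe_union, span_union, Finset.coe_image, span_image, hS]
  refine sup_le (le_sup_of_le_left le_sup_left) ?_
  calc C = (⊤ : Submodule R C).map C.subtype := (map_subtype_top C).symm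
    _ = (span R (T : Set C) ⊔ m • ⊤).map C.subtype := by rw [hT]
    _ ≤ _ := by
      rw [Submodule.map_sup, Submodule.map_smul'']
      exact sup_le (le_sup_of_le_left le_sup_right) (le_sup_of_le_right (smul_mono le_rfl (by rw [hAC]; exact le_top)))

variable [IsNoetherianRing (R ⧸ (⊥ : Ideal R).jacobson)] [Module.Projective R P]

set_option quotPrecheck false in
local notation "𝔍" => Ideal.jacobson (⊥ : Ideal R)

omit [IsNoetherianRing (R ⧸ (⊥ : Ideal R).jacobson)] [Module.Projective R P] in
theorem isUnit_of_sub_one_mem {x : R} (hx : x - 1 ∈ 𝔍) : IsUnit x := by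
  have h := Ideal.mem_jacobson_bot.1 hx 1
  simpa using h

omit [Module.Projective R P] in
theorem exists_fg_compl {ι : Type u} (N : Finset ι) (σ : P →ₗ[R] ι →₀ R) (M : Submodule R P)
    (T : Finset P) (hT : span R (T : Set P) ⊔ M = ⊤) :
    ∃ T' : Finset P, span R (T' : Set P) ⊔ (M ⊓ (⨅ i ∈ N, Submodule.comap (Finsupp.lapply i ∘ₗ σ) 𝔍)) = ⊤ := by
  classical
  haveI : IsNoetherian R (R ⧸ 𝔍) := ⟨fun N => by
    let I : Ideal (R ⧸ 𝔍) :=
      { carrier := N
        add_mem' := N.add_mem
        zero_mem' := N.zero_mem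
        smul_mem' := fun c x hx => by
          obtain ⟨c, rfl⟩ := Ideal.Quotient.mk_surjective c
          rw [smul_eq_mul, ← Ideal.Quotient.algebraMap_eq, ← Algebra.smul_def]
          exact N.smul_mem c hx }
    obtain ⟨S, hS⟩ := IsNoetherian.noetherian I
    refine ⟨S, le_antisymm (span_le.2 fun x hx => (hS ▸ subset_span hx : x ∈ I)) fun x hx => ?_⟩
    have hx' : x ∈ span (R ⧸ 𝔍) (S : Set (R ⧸ 𝔍)) := hS.symm ▸ (hx : x ∈ I)
    rw [← Submodule.restrictScalars_span R (R ⧸ 𝔍) Ideal.Quotient.mk_surjective]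
    exact hx'⟩
  let Θ : M →ₗ[R] (N → R ⧸ 𝔍) :=
    LinearMap.pi fun i => (Ideal.Quotient.mkₐ R 𝔍).toLinearMap ∘ₗ Finsupp.lapply (i : ι) ∘ₗ σ ∘ₗ M.subtype
  obtain ⟨S, hS⟩ := IsNoetherian.noetherian (LinearMap.range Θ)
  have hpre : ∀ y ∈ S, ∃ x : M, Θ x = y := fun y hy => (hS ▸ subset_span hy : y ∈ LinearMap.range Θ)
  choose pre hpre' using hpre
  refine ⟨T ∪ S.attach.image (fun y => (pre y.1 y.2 : P)), eq_top_iff.2 ?_⟩
  rw [← hT, Finset.coe_union, span_union]
  refine sup_le (le_sup_of_le_left le_sup_left) fun p hp => ?_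
  let W : Submodule R M := span R ((S.attach.image fun y => pre y.1 y.2 : Finset M) : Set M)
  have hW : LinearMap.range Θ ≤ W.map Θ := by
    rw [← hS, span_le]
    intro y hy
    exact ⟨pre y hy, subset_span (Finset.mem_image.2 ⟨⟨y, hy⟩, Finset.mem_attach _ _, rfl⟩), hpre' y hy⟩
  obtain ⟨w, hw, hwp⟩ := hW ⟨⟨p, hp⟩, rfl⟩
  rw [show p = (w : P) + (p - w) by abel]
  refine add_mem (mem_sup_left (mem_sup_right ?_)) (mem_sup_right ⟨sub_mem hp w.2, ?_⟩)
  · have : (w : P) ∈ W.map M.subtype := ⟨w, hw, rfl⟩
    rw [map_span] at this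
    refine span_mono ?_ this
    intro z hz
    obtain ⟨q, hq, rfl⟩ := hz
    obtain ⟨a, ha, rfl⟩ := Finset.mem_image.1 (Finset.mem_coe.1 hq)
    exact Finset.mem_coe.2 (Finset.mem_image.2 ⟨a, ha, rfl⟩)
  · rw [SetLike.mem_coe, mem_iInf]
    intro i
    rw [mem_iInf]
    intro hi
    have h := congrFun hwp ⟨i, hi⟩
    show σ (p - w) i ∈ 𝔍
    rw [map_sub, Finsupp.sub_apply]
    exact Ideal.Quotient.eq.1 h.symm

/-- The heart of Bass's argument: elements unimodular modulo the radical in every coset of a cofinite submodule. -/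
theorem exists_unimodular (σ : P →ₗ[R] P →₀ R) (hσ : Finsupp.linearCombination R id ∘ₗ σ = LinearMap.id)
    (h : InfRank R P) (s : P) (M : Submodule R P) (T : Finset P) (hT : span R (T : Set P) ⊔ M = ⊤) :
    ∃ y ∈ M, ∃ r : P →₀ R, Finsupp.linearCombination R (σ (s + y)) r - 1 ∈ 𝔍 := by
  classical
  let o : P → Ideal (R ⧸ 𝔍) := fun x => Ideal.span (Set.range fun j => Ideal.Quotient.mk 𝔍 (σ x j))
  obtain ⟨_, ⟨y, hy, rfl⟩, hmax⟩ := set_has_maximal_iff_noetherian.2 inferInstance
    ((fun y => o (s + y)) '' (M : Set P)) ⟨_, 0, M.zero_mem, rfl⟩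
  by_cases htop : o (s + y) = ⊤
  · refine ⟨y, hy, ?_⟩
    obtain ⟨c, hc⟩ := Finsupp.mem_span_range_iff_exists_finsupp.1 (htop ▸ mem_top : (1 : R ⧸ 𝔍) ∈ o (s + y))
    let out : R ⧸ 𝔍 → R := fun q => if q = 0 then 0 else Function.surjInv Ideal.Quotient.mk_surjective q
    have hout : ∀ q, Ideal.Quotient.mk 𝔍 (out q) = q := fun q => by
      simp only [out]
      split_ifs with h0
      · rw [map_zero, h0]
      · exact Function.surjInv_eq Ideal.Quotient.mk_surjective q
    refine ⟨c.mapRange out (by simp [out]), Ideal.Quotient.eq.1 ?_⟩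
    rw [map_one, ← hc, Finsupp.linearCombination_apply,
      Finsupp.sum_mapRange_index (by intro; simp), map_finsuppSum]
    exact Finsupp.sum_congr fun j _ => by simp [hout]
  · exfalso
    obtain ⟨q, hq, hle⟩ := Ideal.exists_le_maximal _ htop
    let x := s + y
    let m := q.comap (Ideal.Quotient.mk 𝔍)
    haveI : m.IsMaximal := Ideal.comap_isMaximal_of_surjective _ Ideal.Quotient.mk_surjective
    have hJm : 𝔍 ≤ m := fun r hr => by
      show Ideal.Quotient.mk 𝔍 r ∈ q
      rw [Ideal.Quotient.eq_zero_iff_mem.2 hr]; exact zero_mem _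
    obtain ⟨T', hT'⟩ := exists_fg_compl (σ x).support σ M T hT
    set K := M ⊓ (⨅ i ∈ (σ x).support, Submodule.comap (Finsupp.lapply i ∘ₗ σ) 𝔍)
    have hex : ∃ y' ∈ K, ∃ j, σ y' j ∉ m := by
      by_contra hno
      push_neg at hno
      refine h m ‹_› T' (eq_top_iff.2 ?_)
      refine hT'.ge.trans (sup_le_sup_left (fun y' hy' => ?_) _)
      rw [← show Finsupp.linearCombination R id (σ y') = y' from DFunLike.congr_fun hσ y',
        Finsupp.linearCombination_apply]
      exact sum_mem fun j _ => smul_mem_smul (hno y' hy' j) mem_top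
    obtain ⟨y', ⟨hy'M, hy'K⟩, j, hj⟩ := hex
    have hK : ∀ i ∈ (σ x).support, σ y' i ∈ 𝔍 := fun i hi => by
      simp only [SetLike.mem_coe, mem_iInf] at hy'K
      exact hy'K i hi
    have hle' : o x ≤ o (s + (y + y')) := by
      refine Ideal.span_le.2 ?_
      rintro _ ⟨i, rfl⟩
      by_cases hi : i ∈ (σ x).support
      · refine Ideal.subset_span ⟨i, ?_⟩
        show Ideal.Quotient.mk 𝔍 (σ (s + (y + y')) i) = Ideal.Quotient.mk 𝔍 (σ x i)
        rw [← add_assoc, map_add σ, Finsupp.add_apply, map_add, Ideal.Quotient.eq_zero_iff_mem.2 (hK i hi), add_zero]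
      · show Ideal.Quotient.mk 𝔍 (σ x i) ∈ _
        rw [Finsupp.notMem_support_iff.1 hi, map_zero]
        exact zero_mem _
    have hjN : j ∉ (σ x).support := fun hjN => hj (hJm (hK j hjN))
    have hlt : o x < o (s + (y + y')) := by
      refine lt_of_le_not_ge hle' fun hge => hj (hle (hge (Ideal.subset_span ⟨j, ?_⟩)))
      show Ideal.Quotient.mk 𝔍 (σ (s + (y + y')) j) = Ideal.Quotient.mk 𝔍 (σ y' j)
      rw [← add_assoc, map_add σ, Finsupp.add_apply, Finsupp.notMem_support_iff.1 hjN, zero_add]
    exact hmax _ ⟨y + y', M.add_mem hy hy'M, rfl⟩ hlt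

theorem exists_free_piece_of_infRank (h : InfRank R P) (x : P) :
    ∃ (n : ℕ) (y : Fin n → P) (g : P →ₗ[R] Fin n → R),
      (∀ i, g (y i) = Pi.single i 1) ∧ x ∈ span R (Set.range y) := by
  classical
  obtain ⟨σ, hσ⟩ := Module.projective_def'.1 ‹Module.Projective R P›
  let n := (σ x).support.card
  let v : Fin n → P := fun i => ((σ x).support.equivFin.symm i : P)
  let φ : P →ₗ[R] (Fin n → R) := LinearMap.pi fun i => Finsupp.lapply (v i) ∘ₗ σ
  have hx : x = ∑ i, φ x i • v i := by
    simp only [φ, v, LinearMap.pi_apply, LinearMap.comp_apply, Finsupp.lapply_apply]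
    rw [(σ x).support.equivFin.symm.sum_comp (fun p : (σ x).support => σ x (p : P) • (p : P)),
      Finset.sum_coe_sort (σ x).support (fun p : P => σ x p • p)]
    conv_lhs => rw [← show Finsupp.linearCombination R id (σ x) = x from DFunLike.congr_fun hσ x,
      Finsupp.linearCombination_apply]
    rfl
  have key : ∀ k : ℕ, ∃ (u : Fin k → P) (ψ : Fin k → (P →ₗ[R] R)),
      (∀ i l, φ (u i) l ∈ 𝔍) ∧ (∀ i l, ψ i (v l) = 0) ∧ ∀ i l, ψ i (u l) = if i = l then 1 else 0 := by
    intro k
    induction k with
    | zero => exact ⟨Fin.elim0, Fin.elim0, fun i => i.elim0, fun i => i.elim0, fun i => i.elim0⟩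
    | succ k ih =>
      obtain ⟨u, ψ, h1, h2, h3⟩ := ih
      let N : Finset P := Finset.univ.image v ∪ Finset.univ.biUnion (fun l => (σ (v l)).support) ∪
        Finset.univ.biUnion (fun i => (σ (u i)).support)
      obtain ⟨T, hT⟩ := exists_fg_compl N σ ⊤ ∅ (by simp)
      obtain ⟨w, hw, r, hr⟩ := exists_unimodular σ hσ h 0 _ T hT
      rw [zero_add] at hr
      have hwN : ∀ i ∈ N, σ w i ∈ 𝔍 := fun i hi => by
        have hw2 := hw.2
        simp only [SetLike.mem_coe, mem_iInf] at hw2
        exact hw2 i hi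
      let r' := r.filter (· ∉ N)
      let χ₀ : P →ₗ[R] R := Finsupp.linearCombination R (fun j => r' j) ∘ₗ σ
      have hχ₀ : ∀ p, χ₀ p = Finsupp.linearCombination R (σ p) r' := fun p => by
        show Finsupp.linearCombination R (fun j => r' j) (σ p) = _
        rw [Finsupp.linearCombination_apply, Finsupp.linearCombination_apply,
          Finsupp.sum_of_support_subset _ (Finset.subset_union_left (s₂ := r'.support)) _ (by simp),
          Finsupp.sum_of_support_subset r' (Finset.subset_union_right (s₁ := (σ p).support)) _ (by simp)]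
        exact Finset.sum_congr rfl fun j _ => mul_comm _ _
      have hkill : ∀ p, (σ p).support ⊆ N → χ₀ p = 0 := fun p hp => by
        rw [hχ₀, Finsupp.linearCombination_apply]
        refine Finset.sum_eq_zero fun j hj => ?_
        rw [Finsupp.support_filter, Finset.mem_filter] at hj
        show r' j • σ p j = 0
        rw [Finsupp.notMem_support_iff.1 fun h => hj.2 (hp h), smul_zero]
      have hunit : IsUnit (χ₀ w) := by
        refine isUnit_of_sub_one_mem ?_
        rw [hχ₀, show r' = r - r.filter (· ∈ N) from eq_sub_of_add_eq (by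
          rw [add_comm]; exact Finsupp.filter_pos_add_filter_neg r _), map_sub, sub_sub, add_comm _ (1 : R),
          ← sub_sub]
        refine sub_mem hr ?_
        rw [Finsupp.linearCombination_apply]
        refine sum_mem fun j hj => Ideal.mul_mem_left _ _ (hwN j ?_)
        rw [Finsupp.support_filter, Finset.mem_filter] at hj
        exact hj.2
      let χ : P →ₗ[R] R := (↑hunit.unit⁻¹ : R) • χ₀
      have hχw : χ w = 1 := hunit.val_inv_mul
      have hχv : ∀ l, χ (v l) = 0 := fun l => by
        simp [χ, hkill (v l) fun j hj => Finset.mem_union_left _ (Finset.mem_union_right _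
          (Finset.mem_biUnion.2 ⟨l, Finset.mem_univ _, hj⟩))]
      have hχu : ∀ i, χ (u i) = 0 := fun i => by
        simp [χ, hkill (u i) fun j hj => Finset.mem_union_right _
          (Finset.mem_biUnion.2 ⟨i, Finset.mem_univ _, hj⟩)]
      refine ⟨Fin.cons w u, Fin.cons χ fun i => ψ i - ψ i w • χ, fun i l => ?_, fun i l => ?_, fun i l => ?_⟩
      · refine Fin.cases ?_ (fun i => h1 i l) i
        exact hwN _ (Finset.mem_union_left _ (Finset.mem_union_left _ (Finset.mem_image_of_mem v (Finset.mem_univ l))))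
      · refine Fin.cases (hχv l) (fun i => ?_) i
        simp [h2, hχv]
      · refine Fin.cases (Fin.cases ?_ ?_ l) (fun i => Fin.cases ?_ (fun l => ?_) l) i
        · simp [hχw]
        · intro l; simp [hχu, (Fin.succ_ne_zero l).symm]
        · simp [hχw, Fin.succ_ne_zero]
        · simp [hχu, h3, Fin.succ_inj]
  obtain ⟨u, ψ, h1, h2, h3⟩ := key n
  let Ψ : P →ₗ[R] (Fin n → R) := LinearMap.pi ψ
  let g := Fintype.linearCombination R u
  let B : Matrix (Fin n) (Fin n) R := Matrix.of fun i l => φ (u i) l
  have hB : IsUnit (1 + B).det := by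
    refine isUnit_of_sub_one_mem (Ideal.Quotient.eq.1 ?_)
    have h01 : (Ideal.Quotient.mk 𝔍).mapMatrix (1 + B) = 1 := by
      rw [map_add, map_one]
      have : (Ideal.Quotient.mk 𝔍).mapMatrix B = 0 := Matrix.ext fun i l => Ideal.Quotient.eq_zero_iff_mem.2 (h1 i l)
      rw [this, add_zero]
    rw [RingHom.map_det, h01, Matrix.det_one, map_one]
  -- the automorphism and its inverse
  let α : P →ₗ[R] P := LinearMap.id + g ∘ₗ φ
  have hgφ : ∀ a, φ (g a) = Matrix.vecMul a B := fun a => by
    ext l
    simp [g, B, Fintype.linearCombination_apply, Matrix.vecMul, dotProduct]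
  let β : P →ₗ[R] P := LinearMap.id - g ∘ₗ Matrix.vecMulLinear (1 + B)⁻¹ ∘ₗ φ
  have hαβ : ∀ p, α (β p) = p := fun p => by
    have hc : φ p = Matrix.vecMul (Matrix.vecMul (φ p) (1 + B)⁻¹) (1 + B) := by
      rw [Matrix.vecMul_vecMul, Matrix.nonsing_inv_mul _ hB, Matrix.vecMul_one]
    set c := Matrix.vecMul (φ p) (1 + B)⁻¹
    show p - g c + g (φ (p - g c)) = p
    rw [map_sub φ, hgφ, hc, Matrix.vecMul_add, Matrix.vecMul_one, add_sub_cancel_right, sub_add_cancel]
  have hαinj : Function.Injective α := by
    rw [injective_iff_map_eq_zero]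
    intro p hp
    have hp' : p + g (φ p) = 0 := hp
    have h0 : Matrix.vecMul (φ p) (1 + B) = 0 := by
      rw [Matrix.vecMul_add, Matrix.vecMul_one, ← hgφ, ← map_add, hp', map_zero]
    have h00 : φ p = 0 := by
      have := congrArg (fun a => Matrix.vecMul a (1 + B)⁻¹) h0
      simpa [Matrix.vecMul_vecMul, Matrix.mul_nonsing_inv _ hB] using this
    rwa [h00, map_zero, add_zero] at hp'
  refine ⟨n, fun i => β (v i + u i), Ψ ∘ₗ α, fun i => ?_, ?_⟩
  · show Ψ (α (β (v i + u i))) = _
    rw [hαβ]
    ext l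
    simp [Ψ, h2, h3, Pi.single_apply]
  · have hs : x = ∑ i, φ x i • β (v i + u i) := by
      apply hαinj
      simp only [map_sum, map_smul, hαβ, smul_add, Finset.sum_add_distrib]
      rw [← hx]
      show x + g (φ x) = _
      rw [Fintype.linearCombination_apply]
    rw [hs]
    exact sum_mem fun i _ => smul_mem _ _ (subset_span ⟨i, rfl⟩)

theorem free_of_countablyGenerated_of_infRank (h : InfRank R P) (hc : CAlg.IsCountablyGenerated R P) :
    Module.Free R P := by
  classical
  obtain ⟨t, ht, htop⟩ := hc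
  let Good : Set P → Prop := fun u => (LinearIndepOn R id u ∧ u.Finite) ∧ ∃ C : Submodule R P, IsCompl (span R u) C
  have hstep : ∀ (u : {u : Set P // Good u}) (x : P), ∃ u' : {u : Set P // Good u}, u.1 ⊆ u'.1 ∧ x ∈ span R u'.1 := by
    rintro ⟨u, ⟨hu, hufin⟩, C, hC⟩ x
    haveI : Module.Projective R C := Module.Projective.of_split C.subtype (C.projectionOnto _ hC.symm)
      (LinearMap.ext fun c => projectionOnto_apply_left hC.symm c)
    obtain ⟨n, y, g, hg, hxy⟩ := exists_free_piece_of_infRank (R := R) (P := C)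
      (h.of_compl hC.sup_eq_top (fg_span hufin)) (C.projectionOnto _ hC.symm x)
    have hy : LinearIndependent R y := by
      refine LinearIndependent.of_comp g ?_
      rw [show (g : C → Fin n → R) ∘ y = fun i => Pi.single i 1 from funext hg]
      have h := (Pi.basisFun R (Fin n)).linearIndependent
      rwa [show ⇑(Pi.basisFun R (Fin n)) = fun i => Pi.single i 1 from funext (Pi.basisFun_apply R _)] at h
    let v : Fin n → P := fun i => (y i : P)
    have hv : LinearIndependent R v := hy.map' C.subtype C.ker_subtype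
    have hspanv : span R (Set.range v) = (span R (Set.range y)).map C.subtype := by
      rw [map_span, ← Set.range_comp]; rfl
    let G : P →ₗ[R] Fin n → R := g ∘ₗ C.projectionOnto _ hC.symm
    let back : (Fin n → R) →ₗ[R] P := Fintype.linearCombination R v
    have hvC : span R (Set.range v) ≤ C := span_le.2 (by rintro _ ⟨i, rfl⟩; exact (y i).2)
    have hGv : ∀ i, G (v i) = Pi.single i 1 := fun i => by
      show g (C.projectionOnto _ hC.symm (y i : P)) = _
      rw [projectionOnto_apply_left]; exact hg i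
    have hbackG : ∀ p ∈ span R (Set.range v), back (G p) = p := fun p hp => by
      refine LinearMap.eqOn_span (f := back ∘ₗ G) (g := LinearMap.id) ?_ hp
      rintro _ ⟨i, rfl⟩
      show back (G (v i)) = v i
      rw [hGv]; simp [back, Fintype.linearCombination_apply, Pi.single_apply]
    have hGu : ∀ p ∈ span R u, G p = 0 := fun p hp => by
      show g (C.projectionOnto _ hC.symm p) = 0
      rw [(projectionOnto_apply_eq_zero_iff hC.symm).2 hp, map_zero]
    refine ⟨⟨u ∪ Set.range v, ⟨hu.id_union hv.linearIndepOn_id (hC.disjoint.mono_right hvC),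
      hufin.union (Set.finite_range v)⟩,
      C ⊓ LinearMap.ker G, ?_⟩, Set.subset_union_left, ?_⟩
    · refine ⟨Submodule.disjoint_def.2 fun p hp hp' => ?_, codisjoint_iff.2 (eq_top_iff.2 fun p _ => ?_)⟩
      · rw [span_union, mem_sup] at hp
        obtain ⟨a, ha, b, hb, rfl⟩ := hp
        have hb0 : b = 0 := by
          have h2 : G (a + b) = 0 := hp'.2
          rw [map_add, hGu a ha, zero_add] at h2
          rw [← hbackG b hb, h2, map_zero]
        rw [hb0, add_zero] at hp'
        rw [hb0, add_zero]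
        exact Submodule.disjoint_def.1 hC.disjoint a ha hp'.1
      · obtain ⟨a, ha, c, hc, rfl⟩ := mem_sup.1 (hC.sup_eq_top.ge (mem_top : p ∈ ⊤))
        rw [show a + c = (a + back (G c)) + (c - back (G c)) by abel, span_union]
        have hmem : back (G c) ∈ span R (Set.range v) := by
          simp only [back, Fintype.linearCombination_apply]
          exact sum_mem fun i _ => smul_mem _ _ (subset_span ⟨i, rfl⟩)
        refine add_mem (mem_sup_left (add_mem (mem_sup_left ha) (mem_sup_right hmem)))
          (mem_sup_right ⟨sub_mem hc (hvC hmem), ?_⟩)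
        show G (c - back (G c)) = 0
        rw [map_sub, sub_eq_zero]
        simp only [back, Fintype.linearCombination_apply, map_sum, map_smul, hGv]
        ext j
        simp [Pi.single_apply]
    · rw [← projection_add_projection_eq_self hC x, span_union]
      refine add_mem (mem_sup_left (projection_apply_mem hC x)) (mem_sup_right ?_)
      rw [hspanv]
      exact ⟨_, hxy, rfl⟩
  rcases t.eq_empty_or_nonempty with rfl | hne
  · rw [span_empty] at htop
    haveI : Subsingleton P := (Submodule.subsingleton_iff R).1 (subsingleton_of_bot_eq_top htop)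
    exact Module.Free.of_subsingleton R P
  · obtain ⟨x, rfl⟩ := ht.exists_eq_range hne
    choose next hnext hmem using hstep
    have h0 : Good ∅ := ⟨⟨linearIndepOn_empty R id, Set.finite_empty⟩, ⊤, by rw [span_empty]; exact isCompl_bot_top⟩
    let u : ℕ → {u : Set P // Good u} := fun k => k.rec ⟨∅, h0⟩ fun k v => next v (x k)
    have hmono : Monotone fun k => (u k).1 := monotone_nat_of_le_succ fun k => hnext (u k) (x k)
    have hli : LinearIndepOn R id (⋃ k, (u k).1) :=
      linearIndepOn_iUnion_of_directed hmono.directed_le fun k => (u k).2.1.1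
    refine Module.Free.of_basis (Module.Basis.mk (v := fun p : (⋃ k, (u k).1 : Set P) => (p : P)) hli ?_)
    rw [Subtype.range_coe, ← htop, span_le]
    rintro _ ⟨k, rfl⟩
    exact span_mono (Set.subset_iUnion (fun k => (u k).1) (k + 1)) (hmem (u k) (x k))

end Groth.Agent.Kap
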